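import Groth.Agent.Lib.DiagFam3.Basic
import Groth.Agent.Lib.ProjSpace.Basic
import Mathlib

/-!
The graph of a closed immersion of an integral curve as a family of points parametrised by the curve.
-/

set_option autoImplicit false
set_option linter.style.haveILetI false
universe u

open CategoryTheory CategoryTheory.Limits AlgebraicGeometry

namespace Groth.Agent.GraphFam4

variable {k : Type u} [Field k] {X C : Scheme.{u}} (p : X ⟶ Spec (CommRingCat.of k))
  (q : C ⟶ Spec (CommRingCat.of k)) (ι : C ⟶ X) (hιp : ι ≫ p = q)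

/-- The graph of `ι`. -/
noncomputable def graph : C ⟶ pullback p q :=
  pullback.lift ι (𝟙 C) (by rw [hιp, Category.id_comp])

@[reassoc (attr := simp)]
theorem graph_fst : graph p q ι hιp ≫ pullback.fst p q = ι := pullback.lift_fst _ _ _

@[reassoc (attr := simp)]
theorem graph_snd : graph p q ι hιp ≫ pullback.snd p q = 𝟙 C := pullback.lift_snd _ _ _

instance [IsSeparated q] [IsClosedImmersion ι] : IsClosedImmersion (graph p q ι hιp) := by
  haveI : IsClosedImmersion (graph p q ι hιp ≫ pullback.fst p q) := by rw [graph_fst]; infer_instance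
  exact IsClosedImmersion.of_comp (graph p q ι hιp) (pullback.fst p q)

open scoped Classical in
theorem fibreFun_graph [IsIntegral C] [IsSeparated q] [IsClosedImmersion ι]
    (W : AlgebraicCycle (pullback p q) ℤ)
    (hW : ∀ w, W w = if w = graph p q ι hιp (genericPoint C) then 1 else 0)
    (t : Spec (CommRingCat.of k) ⟶ C) (ht : t ≫ q = 𝟙 _) (x : X) :
    AlgEqCyc.fibreFun p q W t ht x = if x = ι (t (IsLocalRing.closedPoint k)) then 1 else 0 := by
  set D := graph p q ι hιp with hD
  have hfst : ∀ y : C, pullback.fst p q (D y) = ι y := fun y => by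
    rw [← Scheme.Hom.comp_apply, hD, graph_fst]
  have hsnd : ∀ y : C, pullback.snd p q (D y) = y := fun y => by
    rw [← Scheme.Hom.comp_apply, hD, graph_snd]; rfl
  have hsl : (t ≫ ι) ≫ AlgEqCyc.slice p q t ht = t ≫ D := by
    apply pullback.hom_ext
    · simp only [AlgEqCyc.slice, hD, Category.assoc, pullback.lift_fst, graph_fst, Category.comp_id]
    · simp only [AlgEqCyc.slice, hD, Category.assoc, pullback.lift_snd, graph_snd]
      rw [← Category.assoc ι p t, hιp, ← Category.assoc t q t, ht, Category.id_comp, Category.comp_id]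
  have hpt : ∀ y : X, (p y : ↥(Spec (CommRingCat.of k))) = IsLocalRing.closedPoint k :=
    fun y => Subsingleton.elim _ _
  have hx : ∀ w : {w : ↥(pullback p q) // W w ≠ 0 ∧ w ⤳ AlgEqCyc.slice p q t ht x},
      w.1 = D (genericPoint C) ∧ x = ι (t (IsLocalRing.closedPoint k)) := fun w => by
    have hw : w.1 = D (genericPoint C) := by
      by_contra hne
      exact w.2.1 (by rw [hW, if_neg hne])
    refine ⟨hw, ?_⟩
    have hs := w.2.2
    rw [hw] at hs
    obtain ⟨y, hy⟩ := hs.mem_closed D.isClosedEmbedding.isClosed_range ⟨genericPoint C, rfl⟩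
    have e1 := congrArg (pullback.fst p q) hy
    have e2 := congrArg (pullback.snd p q) hy
    rw [hfst, ← Scheme.Hom.comp_apply, AlgEqCyc.slice, pullback.lift_fst] at e1
    rw [hsnd, ← Scheme.Hom.comp_apply, AlgEqCyc.slice, pullback.lift_snd, Scheme.Hom.comp_apply, hpt] at e2
    have e1' : ι y = x := e1
    rw [← e1', e2]
  unfold AlgEqCyc.fibreFun
  split_ifs with hxt
  · have hpos : AlgEqCyc.slice p q t ht x = D (t (IsLocalRing.closedPoint k)) := by
      rw [hxt]; exact congrArg (fun m : Spec (CommRingCat.of k) ⟶ pullback p q => m (IsLocalRing.closedPoint k)) hsl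
    have hgen : genericPoint C ⤳ t (IsLocalRing.closedPoint k) := genericPoint_specializes _
    have h' : D (genericPoint C) ⤳ D (t (IsLocalRing.closedPoint k)) := hgen.map D.continuous
    haveI : IsIso (D ≫ pullback.snd p q) := by rw [hD, graph_snd]; infer_instance
    have hone := DiagFam3.fibreMult_image_eq_one D (pullback.snd p q) _ hgen h'
    have hmult : ∀ (v : ↥(pullback p q)) (_ : v = D (t (IsLocalRing.closedPoint k))) (h : D (genericPoint C) ⤳ v),
        AlgEqCyc.fibreMult (pullback.snd p q) v (D (genericPoint C)) h = 1 := by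
      rintro v rfl h; exact hone
    have h'' : D (genericPoint C) ⤳ AlgEqCyc.slice p q t ht x := by rw [hpos]; exact h'
    rw [finsum_eq_single _ ⟨D (genericPoint C), by rw [hW, if_pos rfl]; exact one_ne_zero, h''⟩
      (fun w hne => absurd (Subtype.ext (hx w).1) hne)]
    rw [hmult _ hpos h'', hW, if_pos rfl]
    rfl
  · exact finsum_eq_zero_of_forall_eq_zero fun w => absurd (hx w).2 hxt

/-- Two rational points of a smooth projective integral curve in `X` give an elementary algebraically
trivial cycle on `X`. -/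
theorem isElemAlgTriv [DecidableEq ↥X] [IsClosedImmersion ι] (hs : Smooth q)
    (hp : Neron.IsProjectiveOver k (Over.mk q)) (hi : IsIntegral C) (hd : topologicalKrullDim ↥C = 1)
    (hιp : ι ≫ p = q) (P₁ P₂ : Spec (CommRingCat.of k) ⟶ C) (h₁ : P₁ ≫ q = 𝟙 _) (h₂ : P₂ ≫ q = 𝟙 _) :
    AlgEqCyc.IsElemAlgTriv p
      (Function.locallyFinsuppWithin.single (ι (P₁ (IsLocalRing.closedPoint k))) (1 : ℤ) -
        Function.locallyFinsuppWithin.single (ι (P₂ (IsLocalRing.closedPoint k))) (1 : ℤ)) := by
  classical
  haveI : IsProper q := by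
    obtain ⟨n, i, hi', e⟩ := hp
    haveI := hi'
    change i ≫ CohB1.ProjSpaceOver.toBase n _ = q at e
    rw [← e]
    infer_instance
  set W : AlgebraicCycle (pullback p q) ℤ :=
    Function.locallyFinsuppWithin.single (graph p q ι hιp (genericPoint C)) (1 : ℤ)
  have hW : ∀ w, W w = if w = graph p q ι hιp (genericPoint C) then 1 else 0 := fun w => by
    simp [W, Function.locallyFinsuppWithin.single_apply, Pi.single_apply]
  refine ⟨C, q, hs, hp, hi, hd, W, fun w hw => ?_, P₁, P₂, h₁, h₂, fun x => ?_⟩
  · have : w = graph p q ι hιp (genericPoint C) := by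
      by_contra hne
      exact hw (by rw [hW, if_neg hne])
    rw [this, ← Scheme.Hom.comp_apply, graph_snd]
    exact genericPoint_closure C
  · rw [fibreFun_graph p q ι hιp W hW P₁ h₁ x, fibreFun_graph p q ι hιp W hW P₂ h₂ x]
    simp only [Function.locallyFinsuppWithin.coe_sub, Pi.sub_apply, Function.locallyFinsuppWithin.single_apply, Pi.single_apply]
    split_ifs <;> simp_all

end Groth.Agent.GraphFam4
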